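import Cfsg.Agent.Lib.Involutions.Basic

/-!
Subgroups in which every involution of a normalised elementary abelian subgroup fixes exactly one
point: those involutions are then all conjugate in the point stabiliser. This is used to show that
involution centralisers lie in a proposed subgroup when there are several classes.
-/

set_option autoImplicit false

namespace CfsgLib.TwoClassEmbedding

open CfsgLib.Involutions

variable {W : Type*} [Group W]

/-- For two involutions with product of even order, the central involution times either of them is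
conjugate to one of them. -/
theorem central_mul_isConj {x y : W} (hx : orderOf x = 2) (hy : orderOf y = 2) :
    IsConj x ((x * y) ^ (orderOf (x * y) / 2) * x) ∨
      IsConj y ((x * y) ^ (orderOf (x * y) / 2) * x) := by
  rcases Nat.even_or_odd (orderOf (x * y) / 2) with ⟨k, hk⟩ | ⟨k, hk⟩
  · refine Or.inl (isConj_iff.2 ⟨(x * y) ^ (k : ℤ), ?_⟩)
    have h := conj_by_zpow hx hy (k : ℤ) 0
    rw [zpow_zero, one_mul] at h
    rw [h, hk, ← zpow_natCast]
    congr 2
    push_cast
    ring
  · refine Or.inr (isConj_iff.2 ⟨(x * y) ^ ((k : ℤ) + 1), ?_⟩)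
    have h := conj_by_zpow hx hy ((k : ℤ) + 1) (-1)
    have hy' : (x * y) ^ (-1 : ℤ) * x = y := by
      rw [zpow_neg_one, mul_inv_rev, inv_eq_self_of_involution hx, inv_eq_self_of_involution hy,
        mul_assoc, mul_self_eq_one hx, mul_one]
    rw [hy'] at h
    rw [h, hk, ← zpow_natCast]
    congr 2
    push_cast
    ring

/-- If `M` is proper and normalises `Q`, all nonidentity elements of `Q` are involutions, and none
of them is conjugated into `M` by an element outside `M`, then `M` is transitive on them. -/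
theorem exists_conj_of_onePoint [Finite W] {M Q : Subgroup W} (hM : M ≠ ⊤) (hQM : Q ≤ M)
    (hnorm : ∀ m ∈ M, ∀ q ∈ Q, m * q * m⁻¹ ∈ Q) (hinv : ∀ q ∈ Q, q ≠ 1 → orderOf q = 2)
    (hone : ∀ q ∈ Q, q ≠ 1 → ∀ g : W, g * q * g⁻¹ ∈ M → g ∈ M)
    {q r : W} (hq : q ∈ Q) (hq1 : q ≠ 1) (hr : r ∈ Q) (hr1 : r ≠ 1) :
    ∃ m ∈ M, m * r * m⁻¹ = q := by
  obtain ⟨g, hg⟩ : ∃ g : W, g ∉ M := by
    by_contra hc
    exact hM (eq_top_iff.2 fun g _ => by_contra fun hgM => hc ⟨g, hgM⟩)
  -- centralisers of the elements of `Q` lie in `M`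
  have hcent : ∀ s ∈ Q, s ≠ 1 → ∀ c : W, Commute c s → c ∈ M := fun s hs hs1 c hc =>
    hone s hs hs1 c (by rw [hc.eq, mul_inv_cancel_right]; exact hQM hs)
  -- a conjugate lying in `M` lies in `Q`
  have hmem : ∀ s ∈ Q, s ≠ 1 → ∀ w : W, IsConj s w → w ∈ M → w ∈ Q := by
    intro s hs hs1 w hw hwM
    obtain ⟨c, rfl⟩ := isConj_iff.1 hw
    exact hnorm c (hone s hs hs1 c hwM) s hs
  set d := g * q * g⁻¹ with hd
  have hq2 := hinv q hq hq1
  have hr2 := hinv r hr hr1
  have hd2 : orderOf d = 2 := (orderOf_conj_eq g q).trans hq2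
  have hodd : Odd (orderOf (r * d)) := by
    by_contra hne
    have heven : Even (orderOf (r * d)) := Nat.not_odd_iff_even.1 hne
    obtain ⟨hv2, hvr, hvd⟩ := central_involution hr2 hd2 heven
    set v := (r * d) ^ (orderOf (r * d) / 2) with hv
    -- `v * r` is conjugate to an element of `Q` and commutes with `r`
    have hrd : ∀ w, IsConj r w ∨ IsConj d w → ∃ s ∈ Q, s ≠ 1 ∧ IsConj s w := by
      rintro w (h | h)
      · exact ⟨r, hr, hr1, h⟩
      · exact ⟨q, hq, hq1, (isConj_iff.2 ⟨g, rfl⟩).trans h⟩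
    have hvQ : v ∈ Q := by
      obtain ⟨s, hs, hs1, hsw⟩ := hrd _ (central_mul_isConj hr2 hd2)
      have hw : v * r ∈ Q := hmem s hs hs1 _ hsw
        (hcent r hr hr1 _ ((hvr.mul_left (Commute.refl r))))
      simpa using Q.mul_mem hw (Q.inv_mem hr)
    -- `v * d` is conjugate to an element of `Q` and commutes with `d`
    have hvQ' : g⁻¹ * v * g ∈ Q := by
      have hsym : (d * r) ^ (orderOf (d * r) / 2) = v := by
        have hinvd : d * r = (r * d)⁻¹ := by
          rw [mul_inv_rev, inv_eq_self_of_involution hr2, inv_eq_self_of_involution hd2]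
        rw [hinvd, orderOf_inv, inv_pow, ← hv, inv_eq_self_of_involution hv2]
      have hcj := central_mul_isConj hd2 hr2
      rw [hsym] at hcj
      obtain ⟨s, hs, hs1, hsw⟩ := hrd _ hcj.symm
      have hcm : Commute (g⁻¹ * (v * d) * g) q := by
        have h := (hvd.mul_left (Commute.refl d)).map (MulAut.conj g⁻¹).toMonoidHom
        simpa [hd, MulAut.conj_apply, mul_assoc] using h
      have hw : g⁻¹ * (v * d) * g ∈ Q := hmem s hs hs1 _
        (hsw.trans (isConj_iff.2 ⟨g⁻¹, by rw [inv_inv]⟩)) (hcent q hq hq1 _ hcm)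
      have h := Q.mul_mem hw (Q.inv_mem hq)
      have heq : g⁻¹ * (v * d) * g * q⁻¹ = g⁻¹ * v * g := by rw [hd]; group
      rwa [heq] at h
    refine hg (inv_mem_iff.1 (hone v hvQ (ne_one_of_involution hv2) g⁻¹ ?_))
    rw [inv_inv]
    exact hQM hvQ'
  obtain ⟨c, -, hc⟩ := conj_of_odd_order hr2 hd2 hodd
  have hcq : g⁻¹ * c * r * (g⁻¹ * c)⁻¹ = q := by
    calc g⁻¹ * c * r * (g⁻¹ * c)⁻¹ = g⁻¹ * (c * r * c⁻¹) * g := by group
      _ = q := by rw [hc, hd]; group
  exact ⟨g⁻¹ * c, hone r hr hr1 _ (by rw [hcq]; exact hQM hq), hcq⟩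

/-- A proper subgroup containing the centraliser of each of its involutions and controlling their
fusion has only one class of involutions. -/
theorem exists_conj_of_stronglyEmbedded [Finite W] {M : Subgroup W} (hM : M ≠ ⊤)
    (hone : ∀ x ∈ M, orderOf x = 2 → ∀ g : W, g * x * g⁻¹ ∈ M → g ∈ M)
    {x y : W} (hxM : x ∈ M) (hx : orderOf x = 2) (hyM : y ∈ M) (hy : orderOf y = 2) :
    IsConj x y := by
  obtain ⟨g, hg⟩ : ∃ g : W, g ∉ M := by
    by_contra hc
    exact hM (eq_top_iff.2 fun g _ => by_contra fun hgM => hc ⟨g, hgM⟩)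
  have hd2 : orderOf (g * y * g⁻¹) = 2 := (orderOf_conj_eq g y).trans hy
  by_contra hne
  have hnot : ¬ IsConj x (g * y * g⁻¹) := fun h => hne
    (h.trans (isConj_iff.2 ⟨g⁻¹, by group⟩))
  obtain ⟨v, hv2, hvx, hvd⟩ := exists_common_involution hx hd2 hnot
  have hvM : v ∈ M := hone x hxM hx v (by rw [hvx.eq, mul_inv_cancel_right]; exact hxM)
  have hdM : g * y * g⁻¹ ∈ M :=
    hone v hvM hv2 _ (by rw [hvd.symm.eq, mul_inv_cancel_right]; exact hvM)
  exact hg (hone y hyM hy g hdM)

end CfsgLib.TwoClassEmbedding
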