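import Cfsg.Agent.Lib.TwoClassEmbedding.Centraliser

/-!
A subgroup containing the centralisers of representatives of its two classes of involutions, which
are not fused in the whole group, is the whole group (no appeal to Bender's theorem).
-/

set_option autoImplicit false

namespace CfsgLib.TwoClassEmbedding

open CfsgLib.Involutions

variable {G : Type*} [Group G]

/-- `H` controls the fusion of the conjugates of `t`. -/
theorem mem_of_conj_mem {H : Subgroup G} {t u : G} (htu : ¬ IsConj t u)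
    (hCt : ∀ g : G, Commute g t → g ∈ H) (ht : orderOf t = 2)
    (hcls : ∀ x ∈ H, orderOf x = 2 → ∃ k ∈ H, k * x * k⁻¹ = t ∨ k * x * k⁻¹ = u)
    {k g : G} (hk : k ∈ H) (hg : g * (k * t * k⁻¹) * g⁻¹ ∈ H) : g ∈ H := by
  have h2 : orderOf (g * (k * t * k⁻¹) * g⁻¹) = 2 := by
    rw [orderOf_conj_eq, orderOf_conj_eq, ht]
  obtain ⟨l, hl, e | e⟩ := hcls _ hg h2
  · have hc : Commute (l * g * k) t := by
      show l * g * k * t = t * (l * g * k)
      calc l * g * k * t = l * (g * (k * t * k⁻¹) * g⁻¹) * l⁻¹ * (l * g * k) := by group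
        _ = t * (l * g * k) := by rw [e]
    have h := H.mul_mem (H.mul_mem (H.inv_mem hl) (hCt _ hc)) (H.inv_mem hk)
    simpa [mul_assoc] using h
  · exact absurd (isConj_iff.2 ⟨l * g * k, by rw [← e]; group⟩) htu

/-- Two unfused classes of involutions of `H` with centralisers in `H` force `H = ⊤`. -/
theorem eq_top_of_two_classes [Finite G] {H : Subgroup G} {t u : G} (htH : t ∈ H) (huH : u ∈ H)
    (ht : orderOf t = 2) (hu : orderOf u = 2) (htu : ¬ IsConj t u)
    (hCt : ∀ g : G, Commute g t → g ∈ H) (hCu : ∀ g : G, Commute g u → g ∈ H)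
    (hcls : ∀ x ∈ H, orderOf x = 2 → ∃ k ∈ H, k * x * k⁻¹ = t ∨ k * x * k⁻¹ = u) : H = ⊤ := by
  by_contra hH
  refine htu (exists_conj_of_stronglyEmbedded hH ?_ htH ht huH hu)
  intro x hx hx2 g hg
  obtain ⟨k, hk, e | e⟩ := hcls x hx hx2
  · refine mem_of_conj_mem htu hCt ht hcls (H.inv_mem hk) ?_
    rwa [show k⁻¹ * t * k⁻¹⁻¹ = x by rw [← e]; group]
  · refine mem_of_conj_mem (fun h => htu h.symm) hCu hu
      (fun y hy hy2 => (hcls y hy hy2).imp fun l hl => ⟨hl.1, hl.2.symm⟩) (H.inv_mem hk) ?_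
    rwa [show k⁻¹ * u * k⁻¹⁻¹ = x by rw [← e]; group]

end CfsgLib.TwoClassEmbedding
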