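import Cfsg.Agent.Lib.TwoClassEmbedding.OnePoint

/-!
Showing that a local subgroup `Y` is the whole of `X`: `Y` normalises an elementary abelian
2-subgroup `Q`, whose set `T` of elements of one known type has all fusion controlled by `Y`.
The remaining hypotheses only speak about the action of `Y` on `Q`.
(For the Harada-Norton group: `X = C_G(u)/<u>`, `Q = 2^8`, `T` the 60 vectors of form value 1.)
-/

set_option autoImplicit false

namespace CfsgLib.TwoClassEmbedding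

open CfsgLib.Involutions

variable {X : Type*} [Group X]

/-- An element is special when it commutes with no member of `T`. -/
def Special (T : Set X) (l : X) : Prop := ∀ x ∈ T, ¬ Commute l x

/-- The local data. -/
structure LocalData (Y Q : Subgroup X) (T : Set X) : Prop where
  le : Q ≤ Y
  norm : ∀ m ∈ Y, ∀ q ∈ Q, m * q * m⁻¹ ∈ Q
  sq : ∀ q ∈ Q, q * q = 1
  sub : T ⊆ Q
  one_notMem : (1 : X) ∉ T
  invariant : ∀ m ∈ Y, ∀ x ∈ T, m * x * m⁻¹ ∈ T
  nonempty : T.Nonempty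
  notAll : ∃ q ∈ Q, q ≠ 1 ∧ q ∉ T
  fusion : ∀ x ∈ T, ∀ g : X, g * x * g⁻¹ ∈ Y → g ∈ Y
  pair : ∀ l ∈ Y, l * l = 1 → ∀ a ∈ Q, a ≠ 1 → Commute l a →
    ∃ x ∈ T, l * x * l⁻¹ * x⁻¹ = 1 ∨ l * x * l⁻¹ * x⁻¹ = a
  special : ∀ l ∈ Y, l * l = 1 → Special T l → ∀ g : X,
    ∃ m ∈ Q, m ≠ 1 ∧ Commute l m ∧ (g * m * g⁻¹ ∈ Y → ¬ Special T (g * m * g⁻¹))
  noTrans : ∀ A : Subgroup X, A ≤ Q → A ≠ ⊥ → (∀ a ∈ A, a ∉ T) →
    ¬ ∀ q ∈ Q, q ∉ A → ∀ r ∈ Q, r ∉ A → ∃ m ∈ Y, (∀ a ∈ A, Commute m a) ∧ m * r * m⁻¹ * q⁻¹ ∈ A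

namespace LocalData

variable {Y Q : Subgroup X} {T : Set X}

theorem commute (h : LocalData Y Q T) {a b : X} (ha : a ∈ Q) (hb : b ∈ Q) : Commute a b := by
  show a * b = b * a
  calc a * b = (b * b) * (a * b) * 1 := by rw [h.sq b hb, one_mul, mul_one]
    _ = b * (b * a) * (b * 1) := by group
    _ = b * a * ((a * a) * 1) := by
      rw [h.sq a ha, mul_one, mul_one, mul_one]
      have h1 := h.sq _ (Q.mul_mem hb ha)
      calc b * (b * a) * b = b * ((b * a) * (b * a)) * a⁻¹ := by group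
        _ = b * a⁻¹ := by rw [h1, mul_one]
        _ = b * a := by rw [inv_eq_of_mul_eq_one_right (h.sq a ha)]
    _ = b * a := by rw [h.sq a ha, mul_one, mul_one]

theorem centralizer_le [Finite X] (h : LocalData Y Q T) :
    ∀ A : Subgroup X, A ≤ Q → A ≠ ⊥ → Subgroup.centralizer (A : Set X) ≤ Y := by
  classical
  by_contra hc
  push Not at hc
  obtain ⟨A₀, hA₀⟩ := hc
  obtain ⟨A, hA, hmax⟩ := (Set.toFinite {A : Subgroup X | A ≤ Q ∧ A ≠ ⊥ ∧
    ¬ Subgroup.centralizer (A : Set X) ≤ Y}).exists_maximal ⟨A₀, hA₀⟩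
  obtain ⟨hAQ, hA1, hAY⟩ := hA
  set W := Subgroup.centralizer (A : Set X) with hW
  have hfree : ∀ a ∈ A, a ∉ T := by
    intro a ha haT
    refine hAY fun g hg => h.fusion a haT g ?_
    rw [← Subgroup.mem_centralizer_iff.1 hg a ha, mul_inv_cancel_right]
    exact h.le (hAQ ha)
  have hQW : Q ≤ W := fun q hq => Subgroup.mem_centralizer_iff.2 fun a ha => h.commute (hAQ ha) hq
  have hWcomm : ∀ w ∈ W, ∀ a ∈ A, Commute a w := fun w hw a ha =>
    Subgroup.mem_centralizer_iff.1 hw a ha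
  have hR : ∀ q ∈ Q, q ∉ A → ∀ y ∈ W, y * q * y⁻¹ * q⁻¹ ∈ A → y ∈ Y := by
    intro q hq hqA y hy hmod
    obtain ⟨x, hx⟩ := h.nonempty
    have hB : Subgroup.centralizer ((A ⊔ Subgroup.zpowers q : Subgroup X) : Set X) ≤ Y := by
      by_contra hBY
      have hmem : A ⊔ Subgroup.zpowers q ∈ {A : Subgroup X | A ≤ Q ∧ A ≠ ⊥ ∧
          ¬ Subgroup.centralizer (A : Set X) ≤ Y} :=
        ⟨sup_le hAQ (Subgroup.zpowers_le.2 hq),
          fun hb => hA1 (eq_bot_iff.2 (le_sup_left.trans hb.le)), hBY⟩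
      exact hqA (hmax hmem le_sup_left (Subgroup.mem_sup_right (Subgroup.mem_zpowers q)))
    have hxq : Commute x q := h.commute (h.sub hx) hq
    have hyA : ∀ a ∈ A, Commute a (y * x * y⁻¹) := fun a ha =>
      ((hWcomm y hy a ha).mul_right (h.commute (hAQ ha) (h.sub hx))).mul_right
        (hWcomm y hy a ha).inv_right
    have hyq : Commute q (y * x * y⁻¹) := by
      have h1 : Commute (y * q * y⁻¹) (y * x * y⁻¹) := (Commute.conj_iff y).2 hxq.symm
      have h2 := hyA _ hmod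
      have h3 : q = (y * q * y⁻¹ * q⁻¹)⁻¹ * (y * q * y⁻¹) := by group
      rw [h3]
      exact h2.inv_left.mul_left h1
    refine h.fusion x hx y (hB ?_)
    have hle : A ⊔ Subgroup.zpowers q ≤ Subgroup.centralizer ({y * x * y⁻¹} : Set X) :=
      sup_le (fun a ha => Subgroup.mem_centralizer_singleton_iff.2 (hyA a ha).eq)
        (Subgroup.zpowers_le.2 (Subgroup.mem_centralizer_singleton_iff.2 hyq.eq))
    exact Subgroup.mem_centralizer_iff.2 fun b hb =>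
      Subgroup.mem_centralizer_singleton_iff.1 (hle hb)
  -- the one-point lemma in `W / A`
  let N : Subgroup W := A.subgroupOf W
  have hN : N.Normal := ⟨fun n hn w => by
    show ((w : X) * (n : X) * (w : X)⁻¹) ∈ A
    rw [← (hWcomm _ w.2 (n : X) hn).eq, mul_inv_cancel_right]
    exact hn⟩
  let π : W →* W ⧸ N := QuotientGroup.mk' N
  have hNY : N ≤ Y.subgroupOf W := fun n hn => h.le (hAQ hn)
  have hker : ∀ w : W, ∀ K : Subgroup W, N ≤ K → π w ∈ K.map π → w ∈ K := by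
    intro w K hK hw
    have h1 : w ∈ (K.map π).comap π := hw
    rwa [Subgroup.comap_map_eq, QuotientGroup.ker_mk', sup_eq_left.2 hK] at h1
  have hπ1 : ∀ w : W, π w = 1 ↔ (w : X) ∈ A := fun w => by
    show QuotientGroup.mk' N w = 1 ↔ _
    rw [QuotientGroup.mk'_apply, QuotientGroup.eq_one_iff]
    exact Subgroup.mem_subgroupOf
  have hM : (Y.subgroupOf W).map π ≠ ⊤ := fun htop => hAY fun w hw =>
    (hker ⟨w, hw⟩ _ hNY (htop ▸ Subgroup.mem_top _) : (⟨w, hw⟩ : W) ∈ Y.subgroupOf W)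
  refine h.noTrans A hAQ hA1 hfree fun q hq hqA r hr hrA => ?_
  suffices hex : ∃ m ∈ (Y.subgroupOf W).map π,
      m * π ⟨r, hQW hr⟩ * m⁻¹ = π ⟨q, hQW hq⟩ by
    obtain ⟨_, ⟨m, hmY, rfl⟩, hmr⟩ := hex
    refine ⟨m, hmY, fun a ha => (hWcomm _ m.2 a ha).symm, ?_⟩
    rw [← map_inv π, ← map_mul π, ← map_mul π, ← mul_inv_eq_one, ← map_inv π, ← map_mul π] at hmr
    exact (hπ1 _).1 hmr
  refine exists_conj_of_onePoint (M := (Y.subgroupOf W).map π)
    (Q := (Q.subgroupOf W).map π) hM (Subgroup.map_mono fun w hw => h.le hw) ?_ ?_ ?_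
    (Subgroup.mem_map_of_mem π hq)
    (fun e => hqA ((hπ1 _).1 e)) (Subgroup.mem_map_of_mem π hr) (fun e => hrA ((hπ1 _).1 e))
  · rintro m ⟨m, hm, rfl⟩ s ⟨s, hs, rfl⟩
    exact ⟨m * s * m⁻¹, h.norm _ hm _ hs, by simp only [map_mul, map_inv]⟩
  · rintro s ⟨s, hs, rfl⟩ hs1
    refine orderOf_eq_two_iff_mul.2 ⟨hs1, ?_⟩
    rw [← map_mul π, hπ1]
    show (s : X) * (s : X) ∈ A
    rw [h.sq (s : X) hs]
    exact A.one_mem
  · rintro s ⟨s, hs, rfl⟩ hs1 g hg
    obtain ⟨g, rfl⟩ := QuotientGroup.mk'_surjective N g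
    have hsA : (s : X) ∉ A := fun e => hs1 ((hπ1 _).2 e)
    have hlY : (g : X) * s * (g : X)⁻¹ ∈ Y :=
      hker (g * s * g⁻¹) _ hNY (by rwa [map_mul, map_mul, map_inv])
    obtain ⟨a, ha, ha1⟩ : ∃ a ∈ A, a ≠ 1 := by
      by_contra hc
      exact hA1 (eq_bot_iff.2 fun a ha => by_contra fun ha1 => hc ⟨a, ha, ha1⟩)
    have hla : Commute ((g : X) * s * (g : X)⁻¹) a :=
      (((hWcomm _ g.2 a ha).mul_right (hWcomm _ s.2 a ha)).mul_right
        (hWcomm _ g.2 a ha).inv_right).symm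
    have hl2 : ((g : X) * s * (g : X)⁻¹) * ((g : X) * s * (g : X)⁻¹) = 1 := by
      rw [← pow_two, conj_pow, pow_two, h.sq (s : X) hs, mul_one, mul_inv_cancel]
    obtain ⟨x, hx, hlx⟩ := h.pair _ hlY hl2 a (hAQ ha) ha1 hla
    set c := (g : X) * s * (g : X)⁻¹ * x * ((g : X) * s * (g : X)⁻¹)⁻¹ * x⁻¹ with hc
    have hcA : c ∈ A := by
      rcases hlx with e | e <;> rw [e]
      exacts [A.one_mem, ha]
    have hy : ((g⁻¹ : W) * ⟨x, hQW (h.sub hx)⟩ * g : W).1 ∈ Y := by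
      refine hR s hs hsA _ (Subtype.prop _) ?_
      show (g : X)⁻¹ * x * g * s * ((g : X)⁻¹ * x * g)⁻¹ * (s : X)⁻¹ ∈ A
      have he : (g : X)⁻¹ * x * g * s * ((g : X)⁻¹ * x * g)⁻¹ * (s : X)⁻¹ =
          (g : X)⁻¹ * c⁻¹ * g := by rw [hc]; group
      rw [he, mul_assoc, ((hWcomm _ g.2 _ (A.inv_mem hcA))).eq, inv_mul_cancel_left]
      exact A.inv_mem hcA
    have hgi : ((g : X)⁻¹) ∈ Y := h.fusion x hx _ (by rw [inv_inv]; exact hy)
    exact Subgroup.mem_map_of_mem π (show g ∈ Y.subgroupOf W from inv_mem_iff.1 hgi)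

/-- The main statement: `Y` is everything. -/
theorem eq_top [Finite X] (h : LocalData Y Q T) : Y = ⊤ := by
  by_contra hY
  have hcent : ∀ q ∈ Q, q ≠ 1 → ∀ g : X, Commute g q → g ∈ Y := fun q hq hq1 g hg =>
    h.centralizer_le (Subgroup.zpowers q) (Subgroup.zpowers_le.2 hq)
      (by simpa using hq1) (Subgroup.mem_centralizer_iff.2 fun b hb => by
        obtain ⟨k, rfl⟩ := Subgroup.mem_zpowers_iff.1 hb
        exact ((hg.zpow_right k).symm).eq)
  have hone : ∀ q ∈ Q, q ≠ 1 → ∀ g : X, g * q * g⁻¹ ∈ Y → g ∈ Y := by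
    intro q hq hq1 g hgq
    by_contra hg
    have hback : ∀ x ∈ T, g⁻¹ * x * g ∈ Y → False := fun x hx hxY =>
      hg (inv_mem_iff.1 (h.fusion x hx g⁻¹ (by rwa [inv_inv])))
    have hl2 : (g * q * g⁻¹) * (g * q * g⁻¹) = 1 := by
      rw [← pow_two, conj_pow, pow_two, h.sq q hq, mul_one, mul_inv_cancel]
    have hspec : Special T (g * q * g⁻¹) := by
      intro x hx hcx
      refine hback x hx (hcent q hq hq1 _ ?_)
      have := (Commute.conj_iff g⁻¹).2 hcx.symm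
      simpa [mul_assoc] using this
    obtain ⟨m, hm, hm1, hlm, hns⟩ := h.special _ hgq hl2 hspec g⁻¹
    have hmY : g⁻¹ * m * g⁻¹⁻¹ ∈ Y := hcent q hq hq1 _ (by
      have := (Commute.conj_iff g⁻¹).2 hlm.symm
      simpa [mul_assoc] using this)
    refine hns hmY fun x hx hcx => ?_
    have hcm : Commute (g * x * g⁻¹) m := by
      have := (Commute.conj_iff g).2 hcx.symm
      simpa [mul_assoc] using this
    exact hg (h.fusion x hx g (hcent m hm hm1 _ hcm))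
  obtain ⟨x, hx⟩ := h.nonempty
  obtain ⟨q, hq, hq1, hqT⟩ := h.notAll
  obtain ⟨m, hm, hmx⟩ := exists_conj_of_onePoint hY h.le h.norm
    (fun s hs hs1 => orderOf_eq_two_iff_mul.2 ⟨hs1, h.sq s hs⟩) hone hq hq1 (h.sub hx)
    (fun e => h.one_notMem (e ▸ hx))
  exact hqT (hmx ▸ h.invariant m hm x hx)

end LocalData

end CfsgLib.TwoClassEmbedding
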